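import Groth.Agent.Lib.CohFound.Devissage
import Groth.Agent.Lib.CohFound.ClosedImmPush
import Groth.Agent.Lib.CohFound.ProperModel
import Groth.Agent.Lib.TensorMod.PullSupport

/-!
Serre classes of coherent modules and supports.
-/

set_option autoImplicit false
set_option linter.style.haveILetI false
set_option backward.isDefEq.respectTransparency false
set_option backward.isDefEq.respectTransparency.types false
universe u
open CategoryTheory CategoryTheory.Limits AlgebraicGeometry TopologicalSpace Opposite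
open scoped TensorProduct

namespace CohGab13

open Groth.Agent Groth.Agent.CohFound

variable {X : Scheme.{u}}

/-- A Serre class of coherent modules. -/
def SerreOn (P : X.Modules → Prop) : Prop :=
  ∀ S : ShortComplex X.Modules, S.ShortExact → Coh.IsCoh S.X₁ → Coh.IsCoh S.X₂ →
    Coh.IsCoh S.X₃ → (P S.X₂ ↔ P S.X₁ ∧ P S.X₃)

theorem support_mid {S : ShortComplex X.Modules} (hS : S.ShortExact) :
    CohB1.support S.X₂ = CohB1.support S.X₁ ∪ CohB1.support S.X₃ := by
  haveI := hS.mono_f
  haveI := hS.epi_g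
  refine subset_antisymm (fun x hx => ?_)
    (Set.union_subset (support_subset_of_mono S.f) (support_subset_of_epi S.g))
  by_contra h
  rw [Set.mem_union, not_or] at h
  refine (M1.notMem_support_iff _ x).2 (fun b => ?_) hx
  obtain ⟨a, ha⟩ := M1.exact_elem hS.exact x b ((M1.notMem_support_iff _ x).1 h.2 _)
  exact ha.symm.trans ((congrArg _ ((M1.notMem_support_iff _ x).1 h.1 a)).trans (map_zero _))

theorem serreOn_supp (A : Set X) : SerreOn (fun M : X.Modules => CohB1.support M ⊆ A) :=
  fun S hS _ _ _ => by dsimp only; rw [support_mid hS, Set.union_subset_iff]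

theorem serreOn_notMem (x : X) : SerreOn (fun M : X.Modules => x ∉ CohB1.support M) :=
  fun S hS _ _ _ => by dsimp only; rw [support_mid hS, Set.mem_union, not_or]

variable [IsNoetherian X]

theorem twoOfThree {P : X.Modules → Prop} (hP : SerreOn P) {F : X.Modules} (hF : Coh.IsCoh F)
    (hPF : P F) : TwoOfThree P where
  of_isZero M hM hz := by
    let s : (ShortComplex.mk (0 : M ⟶ F) (𝟙 F) zero_comp).Splitting :=
      { r := 0, s := 𝟙 F, f_r := hz.eq_of_src _ _, s_g := Category.comp_id _, id := by simp }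
    exact ((hP _ s.shortExact hM hF hF).1 hPF).1
  mid S hS h₁ h₂ h₃ p₁ p₃ := (hP S hS h₁ h₂ h₃).2 ⟨p₁, p₃⟩
  left S hS h₁ h₂ h₃ p₂ _ := ((hP S hS h₁ h₂ h₃).1 p₂).1
  right S hS h₁ h₂ h₃ _ p₂ := ((hP S hS h₁ h₂ h₃).1 p₂).2

/-- Finite powers of coherent modules are coherent. -/
theorem isCoh_sigma {Q : X.Modules} (hQ : Coh.IsCoh Q) (r : ℕ) :
    Coh.IsCoh (∐ fun _ : Fin r => Q) := by
  have : HasFiniteBiproducts X.Modules := Abelian.hasFiniteBiproducts
  have h := M1.isFP_of_isFinLocFree (M2.isFinLocFree_of_ofRank (M2.isFinLocFreeOfRank_freeMod X r))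
  let e : CohB1.tensorMod (FlatMod.freeMod X r) Q ≅ (∐ fun _ : Fin r => Q) := M2.freeModTensorIso X r Q
  exact ⟨M1.isQCoh_of_isIso e (M2.isQCoh_tensor (M1.isFP_isQCoh h) hQ.1),
    M1.isFT_of_isIso e (M2.isFT_tensor (M1.isFP_isQCoh h) hQ.1 (M1.isFP_isFT h) hQ.2)⟩

/-- A Serre class is closed under direct summands. -/
theorem of_sigma {P : X.Modules → Prop} (hP : SerreOn P) {r : ℕ} (hr : 0 < r) (Q : X.Modules)
    (hQ : Coh.IsCoh Q) (h : P (∐ fun _ : Fin r => Q)) : P Q := by
  let ι : Q ⟶ ∐ fun _ : Fin r => Q := Sigma.ι (fun _ : Fin r => Q) ⟨0, hr⟩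
  haveI : IsSplitMono ι := ⟨⟨{ retraction := Sigma.desc fun _ => 𝟙 Q, id := by simp [ι] }⟩⟩
  exact ((hP _ (shortExact_cokernel ι) hQ (isCoh_sigma hQ r)
    (M1.isCoh_cokernel hQ.1 (isCoh_sigma hQ r) ι)).1 h).1

section Cut

variable (Z : Closeds X)

/-- `i_*i^*F` for the reduced closed subscheme `Z`. -/
noncomputable def cut (F : X.Modules) : X.Modules :=
  (Scheme.Modules.pushforward (Scheme.IdealSheafData.vanishingIdeal Z).subschemeι).obj
    ((Scheme.Modules.pullback (Scheme.IdealSheafData.vanishingIdeal Z).subschemeι).obj F)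

/-- The quotient map `F ⟶ i_*i^*F`. -/
noncomputable def toCut (F : X.Modules) : F ⟶ cut Z F :=
  (Scheme.Modules.pullbackPushforwardAdjunction (Scheme.IdealSheafData.vanishingIdeal Z).subschemeι).unit.app F

theorem range_subschemeι : Set.range (Scheme.IdealSheafData.vanishingIdeal Z).subschemeι = (Z : Set X) := by
  rw [Scheme.IdealSheafData.range_subschemeι, Scheme.IdealSheafData.coe_support_vanishingIdeal]

theorem isCoh_cut {F : X.Modules} (hF : Coh.IsCoh F) : Coh.IsCoh (cut Z F) :=
  isCoh_push_closedImm _ (M1.isCoh_pullback _ hF)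

theorem bijective_stalkPushforward {Y : Scheme.{u}} (i : Y ⟶ X) [IsClosedImmersion i] (N : Y.Modules)
    (y : Y) : Function.Bijective (TopCat.Presheaf.stalkPushforward AddCommGrpCat.{u} i.base N.presheaf y) := by
  have := TopCat.Presheaf.stalkPushforward.stalkPushforward_iso_of_isInducing (C := AddCommGrpCat.{u})
    (f := i.base) i.isClosedEmbedding.isInducing N.presheaf y
  exact ConcreteCategory.bijective_of_isIso _

theorem support_cut {F : X.Modules} (hF : Coh.IsCoh F) :
    CohB1.support (cut Z F) = (Z : Set X) ∩ CohB1.support F := by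
  let i := (Scheme.IdealSheafData.vanishingIdeal Z).subschemeι
  ext x
  by_cases hx : x ∈ (Z : Set X)
  · obtain ⟨z, rfl⟩ : x ∈ Set.range i := (range_subschemeι Z).symm ▸ hx
    refine ⟨fun h => ⟨hx, ?_⟩, fun h hs => ?_⟩
    · have : z ∈ CohB1.support ((Scheme.Modules.pullback i).obj F) := fun hs =>
        h (@Equiv.subsingleton _ _ (Equiv.ofBijective _ (bijective_stalkPushforward i _ z)) hs)
      rwa [M2.support_pullback i hF.1 hF.2] at this
    · have : z ∈ CohB1.support ((Scheme.Modules.pullback i).obj F) := by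
        rw [M2.support_pullback i hF.1 hF.2]; exact h.2
      exact this (@Equiv.subsingleton _ _ (Equiv.ofBijective _ (bijective_stalkPushforward i _ z)).symm hs)
  · refine iff_of_false ((not_not_intro ?_)) fun h => hx h.1
    have hxr : x ∉ Set.range i := fun h => hx (range_subschemeι Z ▸ h)
    exact ⟨fun a b => (M1.eq_zero_stalk_push i _ hxr a).trans (M1.eq_zero_stalk_push i _ hxr b).symm⟩

theorem epi_toCut (F : X.Modules) : Epi (toCut Z F) := by
  let i := (Scheme.IdealSheafData.vanishingIdeal Z).subschemeι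
  rw [M1.epi_iff_stalk]
  intro x
  by_cases hx : x ∈ Set.range i
  · obtain ⟨z, rfl⟩ := hx
    refine (Function.Surjective.of_comp_iff' (bijective_stalkPushforward i _ z) _).mp ?_
    change Function.Surjective (M2.stalkUnit i z F)
    have h1 : Function.Surjective (fun m : F.presheaf.stalk (i z) =>
        (1 : (Scheme.IdealSheafData.vanishingIdeal Z).subscheme.presheaf.stalk z) ⊗ₜ[X.presheaf.stalk (i z)] m) := by
      intro w
      induction w using TensorProduct.induction_on with
      | zero => exact ⟨0, TensorProduct.tmul_zero _ _⟩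
      | tmul s m =>
        obtain ⟨r, rfl⟩ := i.stalkMap_surjective z s
        refine ⟨r • m, ?_⟩
        dsimp only
        rw [TensorProduct.tmul_smul, TensorProduct.smul_tmul']
        exact congrArg (· ⊗ₜ m) ((Algebra.smul_def _ _).trans (mul_one _))
      | add a b ha hb =>
        obtain ⟨p, rfl⟩ := ha
        obtain ⟨q, rfl⟩ := hb
        exact ⟨p + q, TensorProduct.tmul_add _ _ _⟩
    have h2 : (M2.stalkUnit i z F : F.presheaf.stalk (i z) → _) = (M2.pullStalkEquiv i z F) ∘ fun m =>
        (1 : (Scheme.IdealSheafData.vanishingIdeal Z).subscheme.presheaf.stalk z) ⊗ₜ m :=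
      funext fun m => (LinearMap.liftBaseChange_one_tmul _ (M2.stalkUnit i z F) m).symm
    rw [h2]
    exact (M2.pullStalkEquiv i z F).surjective.comp h1
  · exact fun b => ⟨0, (map_zero _).trans (M1.eq_zero_stalk_push i _ hx b).symm⟩

/-- At the generic point of `Z` the maximal ideal kills `i_*i^*F`. -/
theorem cut_kills {F : X.Modules} (hF : Coh.IsCoh F) {η : X} (hZ : (Z : Set X) = closure {η})
    (c : X.presheaf.stalk η) (hc : c ∈ IsLocalRing.maximalIdeal (X.presheaf.stalk η))
    (a : (cut Z F).presheaf.stalk η) : c • a = 0 := by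
  let i := (Scheme.IdealSheafData.vanishingIdeal Z).subschemeι
  haveI := (isCoh_cut Z hF).1
  obtain ⟨U, hU, hxU, -⟩ := exists_isAffineOpen_mem_and_subset (x := η) (U := ⊤) trivial
  obtain ⟨d, m, hd, hm⟩ := M1.exists_germ_smul_eq (cut Z F) hU hxU a
  let := TopCat.Presheaf.algebra_section_stalk X.presheaf (⟨η, hxU⟩ : U)
  have := hU.isLocalization_stalk ⟨η, hxU⟩
  obtain ⟨⟨b, c₂⟩, hb⟩ := IsLocalization.surj (hU.primeIdealOf ⟨η, hxU⟩).asIdeal.primeCompl c
  have hb' : c * X.presheaf.germ U η hxU c₂.1 = X.presheaf.germ U η hxU b := hb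
  have hu : IsUnit (X.presheaf.germ U η hxU c₂.1) := (M1.isUnit_germ_iff hU hxU c₂.1).mpr c₂.2
  have hηb : η ∉ X.basicOpen b := fun h => by
    have := (X.mem_basicOpen b η hxU).mp h
    rw [← hb'] at this
    exact hc (isUnit_of_mul_isUnit_left this)
  have hbI : b ∈ i.ker.ideal ⟨U, hU⟩ := by
    rw [Scheme.IdealSheafData.ker_subschemeι, Scheme.IdealSheafData.vanishingIdeal_ideal]
    rw [PrimeSpectrum.mem_vanishingIdeal]
    intro p hp
    by_contra hpb
    have hy : hU.fromSpec p ∈ X.basicOpen b := by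
      rw [← Scheme.Hom.mem_preimage, hU.fromSpec_preimage_basicOpen]
      exact hpb
    exact hηb ((specializes_iff_mem_closure.2 (hZ ▸ hp)).mem_open (X.basicOpen b).2 hy)
  have h0 := congrArg ((cut Z F).presheaf.germ U η hxU) (ker_smul_push i _ ⟨U, hU⟩ b hbI m)
  rw [map_zero] at h0
  erw [M1.germ_smul (cut Z F)] at h0
  rw [← hb', ← hm, ← mul_smul] at h0
  refine (hu.mul hd).smul_eq_zero.mp ?_
  rw [← mul_smul]
  refine Eq.trans (congrArg (· • a) ?_) h0
  ring

end Cut

/-- Models from quotients. -/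
theorem exists_model {P : X.Modules → Prop} (hP : SerreOn P) {F : X.Modules} (hF : Coh.IsCoh F)
    {η : X} (hη : η ∈ CohB1.support F)
    (hPG : P (cut ⟨closure {η}, isClosed_closure⟩ F)) : Nonempty (HasModel P η) := by
  set Z : Closeds X := ⟨closure {η}, isClosed_closure⟩
  have hG := isCoh_cut Z hF
  haveI : Module.Finite (X.presheaf.stalk η) ((cut Z F).presheaf.stalk η) := M1.finite_stalk hG.1 hG.2 η
  obtain ⟨a₀, ha₀⟩ : ∃ a : (cut Z F).presheaf.stalk η, a ≠ 0 := by
    by_contra h
    push Not at h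
    have : η ∈ CohB1.support (cut Z F) := by
      rw [support_cut Z hF]; exact ⟨subset_closure rfl, hη⟩
    exact (M1.notMem_support_iff _ η).2 h this
  obtain ⟨r, e, hr, hspan, hind⟩ := exists_residue_basis (cut_kills Z hF rfl) a₀ ha₀
  exact ⟨{ G := cut Z F, r := r, isCoh := hG
           supp := (support_cut Z hF).trans_subset Set.inter_subset_left
           pos := hr, e := e, kills := cut_kills Z hF rfl, span := hspan, indep := hind, prop := hPG
           of_sigma := fun Q hQ h => of_sigma hP hr Q hQ h }⟩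

/-- Dévissage inside a closed subset. -/
theorem holdsOn {P : X.Modules → Prop} (hP : TwoOfThree P) (Z₀ : Closeds X)
    (hG : ∀ η ∈ Z₀, Nonempty (HasModel P η)) {F : X.Modules} (hF : Coh.IsCoh F)
    (hF₀ : CohB1.support F ⊆ Z₀) : P F := by
  suffices h : ∀ (Z : Closeds X), Z ≤ Z₀ → ∀ (F : X.Modules), Coh.IsCoh F → CohB1.support F ⊆ Z → P F from
    h Z₀ le_rfl F hF hF₀
  intro Z
  induction Z using WellFoundedLT.induction with
  | ind Z ih =>
    intro hle F hF hFZ
    by_cases hne : ∃ x, x ∈ Z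
    swap
    · refine hP.of_isZero F hF ((IsZero.iff_id_eq_zero F).2 ?_)
      refine Scheme.Modules.hom_ext _ _ fun U => ?_
      ext s
      exact M1.section_ext _ _ fun x hx =>
        ((M1.notMem_support_iff F x).1 (fun h => hne ⟨x, hFZ h⟩) _).trans
          ((M1.notMem_support_iff F x).1 (fun h => hne ⟨x, hFZ h⟩) _).symm
    obtain ⟨x₀, hx₀⟩ := hne
    obtain ⟨η, hηZ, hmax⟩ := exists_maximal_point Z hx₀
    obtain ⟨m⟩ := hG η (hle hηZ)
    have hsmall : SmallOK P Z η := fun M hM hMZ hη => by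
      refine ih ⟨CohB1.support M, M1.isClosed_support hM.2⟩ (lt_of_le_of_ne hMZ fun e => ?_) (le_trans hMZ hle) M hM le_rfl
      exact hη ((congrArg (fun Y : Closeds X => η ∈ Y) e).mpr hηZ)
    obtain ⟨L, hL⟩ := exists_maximalIdeal_pow_kills hF fun y hy h => hmax y (hFZ hy) h
    have hnil : ∀ g ∈ IsLocalRing.maximalIdeal (X.presheaf.stalk η), ∃ L : ℕ,
        ∀ a : F.presheaf.stalk η, g ^ L • a = 0 :=
      exists_pow_kills hF fun y hy h => hmax y (hFZ hy) h
    have hcut : ∀ N, Coh.IsCoh (cutAt F η N) ∧ CohB1.support (cutAt F η N) ⊆ (Z : Set X) := fun N =>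
      ⟨isCoh_cutAt F η N hF hnil, (support_subset_of_mono (cutι F η N)).trans hFZ⟩
    haveI : Module.Finite (X.presheaf.stalk η) (F.presheaf.stalk η) := M1.finite_stalk hF.1 hF.2 η
    have hbot : P (cutAt F η ⊥) := by
      refine hsmall _ (hcut ⊥).1 (hcut ⊥).2 ((M1.notMem_support_iff _ η).2 fun a => ?_)
      refine stL_injective_of_mono (cutι F η ⊥) η ?_
      have : stL (cutι F η ⊥) η a ∈ (⊥ : Submodule _ (F.presheaf.stalk η)) :=
        (range_stL_cutι F η ⊥).le (LinearMap.mem_range_self _ a)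
      rw [map_zero]
      exact (Submodule.mem_bot _).1 this
    obtain ⟨N, hN, hNmax⟩ := set_has_maximal_iff_noetherian.2 inferInstance
      {N : Submodule (X.presheaf.stalk η) (F.presheaf.stalk η) | P (cutAt F η N)} ⟨⊥, hbot⟩
    by_cases htop : N = ⊤
    · subst htop
      refine (iff_of_bijective hP.on (Set.subset_univ _) hsmall (cutι F η ⊤) (hcut ⊤).1 hF (hcut ⊤).2 hFZ
        (stL_injective_of_mono _ η) ?_).1 hN
      exact LinearMap.range_eq_top.1 (range_stL_cutι F η ⊤)
    exfalso
    -- an element just above `N`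
    have hex : ∃ k : ℕ, ∀ c ∈ IsLocalRing.maximalIdeal (X.presheaf.stalk η) ^ k,
        ∀ a : F.presheaf.stalk η, c • a ∈ N :=
      ⟨L, fun c hc a => by rw [hL c hc a]; exact N.zero_mem⟩
    classical
    obtain ⟨k, hk, hkmin⟩ : ∃ k, (∀ c ∈ IsLocalRing.maximalIdeal (X.presheaf.stalk η) ^ k,
        ∀ a : F.presheaf.stalk η, c • a ∈ N) ∧ ∀ k' < k, ¬ ∀ c ∈
          IsLocalRing.maximalIdeal (X.presheaf.stalk η) ^ k', ∀ a : F.presheaf.stalk η, c • a ∈ N :=
      ⟨Nat.find hex, Nat.find_spec hex, fun k' hk' => Nat.find_min hex hk'⟩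
    obtain ⟨k', rfl⟩ : ∃ k', k = k' + 1 := by
      rcases k with _ | k'
      · exact absurd (Submodule.eq_top_iff'.2 fun a => by
          have := hk 1 (by rw [pow_zero, Ideal.one_eq_top]; trivial) a
          rwa [one_smul] at this) htop
      · exact ⟨k', rfl⟩
    have hk' := hkmin k' (Nat.lt_succ_self _)
    push Not at hk'
    obtain ⟨c₀, hc₀, a₀, ha₀⟩ := hk'
    have hma : ∀ c ∈ IsLocalRing.maximalIdeal (X.presheaf.stalk η), c • c₀ • a₀ ∈ N := fun c hc => by
      rw [← mul_smul]
      exact hk _ (by rw [pow_succ']; exact Ideal.mul_mem_mul hc hc₀) a₀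
    let N' := N ⊔ Submodule.span (X.presheaf.stalk η) {c₀ • a₀}
    have haN' : c₀ • a₀ ∈ N' := Submodule.mem_sup_right (Submodule.mem_span_singleton_self _)
    have hlt : N < N' := lt_of_le_of_ne le_sup_left fun e => ha₀ (e ▸ haN')
    refine hNmax N' ?_ hlt
    obtain ⟨i, hi⟩ : ∃ i : cutAt F η N ⟶ cutAt F η N', i ≫ cutι F η N' = cutι F η N :=
      M1.Sub.exists_lift (cutι F η N) ⟨_, cutι F η N', inferInstance⟩ fun T s =>
        (exists_cutι_iff F η N' _).2 fun h => (le_sup_left : N ≤ N')
          ((exists_cutι_iff F η N _).1 ⟨s, rfl⟩ h)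
    have : Mono i := mono_of_mono_fac hi
    obtain ⟨b, hb⟩ : ∃ b, stL (cutι F η N') η b = c₀ • a₀ := (range_stL_cutι F η N').ge haN'
    let Q := cokernel i
    have hQ : Coh.IsCoh Q := M1.isCoh_cokernel (hcut N).1.1 (hcut N').1 i
    have hQZ : CohB1.support Q ⊆ (Z : Set X) :=
      (support_subset_of_epi (cokernel.π i)).trans (hcut N').2
    have hS := shortExact_cokernel i
    have hkerπ : ∀ d, stL (cokernel.π i) η d = 0 ↔ stL (cutι F η N') η d ∈ N := fun d => by
      constructor
      · intro hd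
        obtain ⟨e, rfl⟩ := M1.exact_elem hS.exact η d hd
        refine (range_stL_cutι F η N).le ⟨e, ?_⟩
        exact (congrArg (fun χ => stL χ η e) hi.symm).trans (stL_comp i (cutι F η N') η e)
      · intro hd
        obtain ⟨e, he⟩ := (range_stL_cutι F η N).ge hd
        have : d = stL i η e := stL_injective_of_mono (cutι F η N') η (by rw [← stL_comp, hi, he])
        rw [this, ← stL_comp, cokernel.condition, stL_zero]
    have hPQ : P Q := by
      refine prop_of_cyclic hP.on (Set.subset_univ _) hsmall m hηZ hQ hQZ (q := stL (cokernel.π i) η b) (fun h => ?_)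
        (fun c hc => ?_) fun d => ?_
      · exact ha₀ (hb ▸ (hkerπ b).1 h)
      · rw [← map_smul, hkerπ, map_smul, hb]
        exact hma c hc
      · obtain ⟨d', rfl⟩ := stL_surjective_of_epi (cokernel.π i) η d
        have hd' : stL (cutι F η N') η d' ∈ N' :=
          (range_stL_cutι F η N').le (LinearMap.mem_range_self _ d')
        obtain ⟨u, hu, v, hv, huv⟩ := Submodule.mem_sup.1 hd'
        obtain ⟨c, rfl⟩ := Submodule.mem_span_singleton.1 hv
        refine ⟨c, ?_⟩
        rw [← map_smul, ← sub_eq_zero, ← map_sub, hkerπ, map_sub, map_smul, hb, ← huv]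
        have : c • c₀ • a₀ - (u + c • c₀ • a₀) = -u := by abel
        rw [this]
        exact N.neg_mem hu
    exact hP.mid _ hS (hcut N).1 (hcut N').1 hQ hN hPQ

/-- The criterion used for all the rows. -/
theorem mem_of_cuts {P : X.Modules → Prop} (hP : SerreOn P) {A : X.Modules} (hA : Coh.IsCoh A) (hPA : P A)
    {M : X.Modules} (hM : Coh.IsCoh M)
    (h : ∀ η ∈ CohB1.support M, ∃ F : X.Modules, Coh.IsCoh F ∧ η ∈ CohB1.support F ∧
      P (cut ⟨closure {η}, isClosed_closure⟩ F)) : P M :=
  holdsOn (twoOfThree hP hA hPA) ⟨CohB1.support M, M1.isClosed_support hM.2⟩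
    (fun η hη => by
      obtain ⟨F, hF, hηF, hPF⟩ := h η hη
      exact exists_model hP hF hηF hPF) hM le_rfl

theorem mem_of_support_subset {P : X.Modules → Prop} (hP : SerreOn P) {F : X.Modules} (hF : Coh.IsCoh F)
    (hPF : P F) {M : X.Modules} (hM : Coh.IsCoh M) (h : CohB1.support M ⊆ CohB1.support F) : P M := by
  refine mem_of_cuts hP hF hPF hM fun η hη => ⟨F, hF, h hη, ?_⟩
  set Z : Closeds X := ⟨closure {η}, isClosed_closure⟩
  haveI := epi_toCut Z F
  exact ((hP _ (shortExact_kernel (toCut Z F)) (M1.isCoh_kernel hF (isCoh_cut Z hF).1 (toCut Z F)) hF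
    (isCoh_cut Z hF)).1 hPF).2

theorem mem_support_structureModule (x : X) : x ∈ CohB1.support (Coh.structureModule X) := by
  intro h
  haveI := h
  let s : Γ(Coh.structureModule X, (⊤ : X.Opens)) := (1 : Γ(X, ⊤))
  obtain ⟨W, hxW, i, j, e⟩ := (Coh.structureModule X).presheaf.germ_eq x (TopologicalSpace.Opens.mem_top x) (TopologicalSpace.Opens.mem_top x) s 0
    (Subsingleton.elim _ _)
  rw [map_zero] at e
  have e' : (1 : Γ(X, W)) = 0 := (map_one (X.presheaf.map i.op).hom).symm.trans e
  have := congrArg (X.presheaf.germ W x hxW) e'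
  rw [map_one, map_zero] at this
  exact one_ne_zero this

theorem exists_coh_support_eq (Z : Closeds X) :
    ∃ F : X.Modules, Coh.IsCoh F ∧ CohB1.support F = (Z : Set X) := by
  refine ⟨cut Z (Coh.structureModule X), isCoh_cut Z (M1.isCoh_structureModule X), ?_⟩
  rw [support_cut Z (M1.isCoh_structureModule X), Set.inter_eq_left]
  exact fun x _ => mem_support_structureModule x

end CohGab13
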